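import Cfsg.Agent.H10.O7T.Vec
import Cfsg.Agent.H10.O7T.LChk
import Cfsg.Agent.H35.T1685.PTab

/-!
# The generators `b, …, i` of the presented Fi22 act on 351 points as reflections of the orthogonal space (helper10; generated)
-/

set_option autoImplicit false
set_option linter.all false

namespace Cfsg.Agent.H10.O7T

open Cfsg.Agent.H35 Cfsg.Spor Cfsg.Agent.H10

/-- the point of the 3510-point representation of the `i`-th minus point -/
def bON (i : ℕ) : ℕ := Nat.land (Nat.shiftRight ol_bOtab (Nat.mul 12 i)) 4095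
/-- the index of the minus point of a point of the 351-orbit -/
def bIN (p : ℕ) : ℕ := Nat.land (Nat.shiftRight ol_bItab (Nat.mul 9 p)) 511

/-- the vector of the generator -/
def vB : I7 → ZMod 3 := mk7 0 1 1 0 1 1 0
/-- the vector of the generator -/
def vC : I7 → ZMod 3 := mk7 0 0 0 1 0 1 2
/-- the vector of the generator -/
def vD : I7 → ZMod 3 := mk7 0 0 0 1 0 0 2
/-- the vector of the generator -/
def vE : I7 → ZMod 3 := mk7 0 0 1 0 0 2 2
/-- the vector of the generator -/
def vF : I7 → ZMod 3 := mk7 1 0 0 1 0 0 1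
/-- the vector of the generator -/
def vG : I7 → ZMod 3 := mk7 0 1 0 1 1 1 1
/-- the vector of the generator -/
def vH : I7 → ZMod 3 := mk7 0 0 1 2 2 0 1
/-- the vector of the generator -/
def vI : I7 → ZMod 3 := mk7 0 1 0 0 2 0 0
theorem ol_vq : qq vB = 2 ∧ qq vC = 2 ∧ qq vD = 2 ∧ qq vE = 2 ∧ qq vF = 2 ∧ qq vG = 2 ∧ qq vH = 2 ∧ qq vI = 2 := by decide +kernel
theorem ol_B1 : allR (fun i => Nat.ble (Nat.succ (bON i)) 3510 && Nat.beq (bIN (bON i)) i) 351 9 0 = true := by decide +kernel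
theorem ol_B2 : allR (fun p => !(Nat.ble (Nat.succ (bIN p)) 351) || Nat.beq (bON (bIN p)) p) 3510 12 0 = true := by decide +kernel
theorem ol_inv : allR (fun p => t1685_sw.all (fun w => !(Nat.ble (Nat.succ (bIN p)) 351) || Nat.ble (Nat.succ (bIN (t1687_pd.walk w p))) 351)) 3510 12 0 = true := by decide +kernel
theorem ol_inv2 : allR (fun p => t1685_sw.all (fun w => !(Nat.ble (Nat.succ (bIN (t1687_pd.walk w p))) 351) || Nat.ble (Nat.succ (bIN p)) 351)) 3510 12 0 = true := by decide +kernel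
theorem ol_gb : allR (fun i => Nat.beq (bIN (t1687_pd.walk [.b] (bON i))) (idxN (rf vB (vec i)))) 351 9 0 = true := by decide +kernel
theorem ol_gc : allR (fun i => Nat.beq (bIN (t1687_pd.walk [.c] (bON i))) (idxN (rf vC (vec i)))) 351 9 0 = true := by decide +kernel
theorem ol_gd : allR (fun i => Nat.beq (bIN (t1687_pd.walk [.d] (bON i))) (idxN (rf vD (vec i)))) 351 9 0 = true := by decide +kernel
theorem ol_ge : allR (fun i => Nat.beq (bIN (t1687_pd.walk [.e] (bON i))) (idxN (rf vE (vec i)))) 351 9 0 = true := by decide +kernel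
theorem ol_gf : allR (fun i => Nat.beq (bIN (t1687_pd.walk [.f] (bON i))) (idxN (rf vF (vec i)))) 351 9 0 = true := by decide +kernel
theorem ol_gg : allR (fun i => Nat.beq (bIN (t1687_pd.walk [.g] (bON i))) (idxN (rf vG (vec i)))) 351 9 0 = true := by decide +kernel
theorem ol_gh : allR (fun i => Nat.beq (bIN (t1687_pd.walk [.h] (bON i))) (idxN (rf vH (vec i)))) 351 9 0 = true := by decide +kernel
theorem ol_gi : allR (fun i => Nat.beq (bIN (t1687_pd.walk [.i] (bON i))) (idxN (rf vI (vec i)))) 351 9 0 = true := by decide +kernel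
/-- the word `cdefghi` -/
def ol_w7 : List Fi22.Gen := [.c, .d, .e, .f, .g, .h, .i]
theorem ol_rel : allR (fun i => Nat.beq (bIN (t1687_pd.walk (ol_w7 ++ ol_w7 ++ ol_w7 ++ ol_w7 ++ ol_w7 ++ ol_w7 ++ ol_w7 ++ ol_w7 ++ ol_w7) (bON i))) i) 351 9 0 = true := by decide +kernel
theorem ol_base : Nat.ble (Nat.succ (bIN 976)) 351 = true ∧ Nat.ble (Nat.succ (bIN 821)) 351 = true ∧ Nat.ble (Nat.succ (bIN 1518)) 351 = true ∧ Nat.ble (Nat.succ (bIN 974)) 351 = true ∧ Nat.ble (Nat.succ (bIN 407)) 351 = true ∧ Nat.ble (Nat.succ (bIN 666)) 351 = true := by decide +kernel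

end Cfsg.Agent.H10.O7T
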