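import Mathlib
import Cfsg.Agent.H35.TCBase
import Cfsg.Agent.H10.O7T.Tab

/-!
# The 351 minus points of the orthogonal space of dimension 7 over the field with three elements:
vectors and indices (helper10)
-/

set_option autoImplicit false

namespace Cfsg.Agent.H10.O7T

open Cfsg.Agent.H35

/-- the index type of the coordinates -/
abbrev I7 : Type := Unit ⊕ (Fin 3 ⊕ Fin 3)

/-- position of a coordinate -/
def pos : I7 → ℕ
  | .inl _ => 0
  | .inr (.inl i) => 1 + i.val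
  | .inr (.inr i) => 4 + i.val

/-- decoding two bits -/
def ofN (n : ℕ) : ZMod 3 :=
  bif Nat.testBit n 0 then 1 else (bif Nat.testBit n 1 then 2 else 0)

/-- encoding as two bits -/
def toN (x : ZMod 3) : ℕ := ZMod.val x

/-- the vector of a code -/
def dec (c : ℕ) : I7 → ZMod 3 := fun j => ofN (Nat.shiftRight c (Nat.mul 2 (pos j)))

/-- the code of the `i`-th vector -/
def vecN (i : ℕ) : ℕ := Nat.land (Nat.shiftRight ol_vtab (Nat.mul 14 i)) 16383

/-- the `i`-th vector -/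
def vec (i : ℕ) : I7 → ZMod 3 := dec (vecN i)

/-- the code of a vector -/
def code (u : I7 → ZMod 3) : ℕ :=
  toN (u (.inl ())) + 4 * toN (u (.inr (.inl 0))) + 16 * toN (u (.inr (.inl 1))) +
    64 * toN (u (.inr (.inl 2))) + 256 * toN (u (.inr (.inr 0))) + 1024 * toN (u (.inr (.inr 1))) +
    4096 * toN (u (.inr (.inr 2)))

/-- the index of the point of a vector -/
def idxN (u : I7 → ZMod 3) : ℕ := Nat.land (Nat.shiftRight ol_itab (Nat.mul 9 (code u))) 511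

/-- the quadratic form, written out -/
def qq (u : I7 → ZMod 3) : ZMod 3 :=
  u (.inl ()) * u (.inl ()) + u (.inr (.inl 0)) * u (.inr (.inr 0)) +
    u (.inr (.inl 1)) * u (.inr (.inr 1)) + u (.inr (.inl 2)) * u (.inr (.inr 2))

/-- the polar form, written out -/
def bb (u v : I7 → ZMod 3) : ZMod 3 :=
  2 * u (.inl ()) * v (.inl ()) +
    (u (.inr (.inl 0)) * v (.inr (.inr 0)) + v (.inr (.inl 0)) * u (.inr (.inr 0))) +
    (u (.inr (.inl 1)) * v (.inr (.inr 1)) + v (.inr (.inl 1)) * u (.inr (.inr 1))) +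
    (u (.inr (.inl 2)) * v (.inr (.inr 2)) + v (.inr (.inl 2)) * u (.inr (.inr 2)))

/-- minus the reflection of a vector of norm `-1`, as a function -/
def rf (v u : I7 → ZMod 3) : I7 → ZMod 3 := fun j => -u j - bb v u * v j

/-- a vector from its coordinates -/
def mk7 (a0 a1 a2 a3 a4 a5 a6 : ZMod 3) : I7 → ZMod 3
  | .inl _ => a0
  | .inr (.inl i) => ![a1, a2, a3] i
  | .inr (.inr i) => ![a4, a5, a6] i

/-- the opposite vector -/
def ng (u : I7 → ZMod 3) : I7 → ZMod 3 := fun j => -u j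

theorem v_idx : allR (fun i => Nat.beq (idxN (vec i)) i) 351 9 0 = true := by decide +kernel

theorem v_q : allR (fun i => decide (qq (vec i) = 2)) 351 9 0 = true := by decide +kernel

set_option maxRecDepth 100000 in
theorem v_dec : ∀ a0 a1 a2 a3 a4 a5 a6 : ZMod 3,
    dec (code (mk7 a0 a1 a2 a3 a4 a5 a6)) (.inl ()) = a0 ∧
    dec (code (mk7 a0 a1 a2 a3 a4 a5 a6)) (.inr (.inl 0)) = a1 ∧
    dec (code (mk7 a0 a1 a2 a3 a4 a5 a6)) (.inr (.inl 1)) = a2 ∧
    dec (code (mk7 a0 a1 a2 a3 a4 a5 a6)) (.inr (.inl 2)) = a3 ∧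
    dec (code (mk7 a0 a1 a2 a3 a4 a5 a6)) (.inr (.inr 0)) = a4 ∧
    dec (code (mk7 a0 a1 a2 a3 a4 a5 a6)) (.inr (.inr 1)) = a5 ∧
    dec (code (mk7 a0 a1 a2 a3 a4 a5 a6)) (.inr (.inr 2)) = a6 := by
  decide +kernel

set_option maxRecDepth 100000 in
theorem v_nrm : ∀ a0 a1 a2 a3 a4 a5 a6 : ZMod 3, qq (mk7 a0 a1 a2 a3 a4 a5 a6) = 2 →
    idxN (mk7 a0 a1 a2 a3 a4 a5 a6) < 351 ∧
      (vecN (idxN (mk7 a0 a1 a2 a3 a4 a5 a6)) = code (mk7 a0 a1 a2 a3 a4 a5 a6) ∨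
        vecN (idxN (mk7 a0 a1 a2 a3 a4 a5 a6)) = code (ng (mk7 a0 a1 a2 a3 a4 a5 a6))) := by
  decide +kernel

set_option maxRecDepth 100000 in
theorem v_neg : ∀ a0 a1 a2 a3 a4 a5 a6 : ZMod 3,
    idxN (ng (mk7 a0 a1 a2 a3 a4 a5 a6)) = idxN (mk7 a0 a1 a2 a3 a4 a5 a6) := by
  decide +kernel

end Cfsg.Agent.H10.O7T
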